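import Groth.Agent.Wiebe.Basic
import Groth.Agent.FlatCx.Tensor
import Mathlib

/-!
# Periodicity classes of a lifted resolution

If `∑ bᵢ aᵢ = x g` with the `bᵢ` in the annihilator of `x`, and the reduction of a lifted resolution modulo the
annihilator is eventually exact, then a power of `g` is trivial in degree zero.
-/

set_option autoImplicit false
set_option linter.style.haveILetI false
universe u v w

namespace Groth.Agent.TorLift

open Groth.Agent

variable {A : Type u} [CommRing A]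

theorem map_mem_smul_top {r : ℕ} {M : Type v} [AddCommGroup M] [Module A M] (m : Ideal A)
    (f : Wiebe.X A r →ₗ[A] M) (z : Wiebe.X A r) (hz : ∀ s, z s ∈ m) : f z ∈ m • (⊤ : Submodule A M) := by
  classical
  rw [← (Pi.basisFun A (Fin r → Bool)).sum_repr z, map_sum]
  refine Submodule.sum_mem _ fun s _ => ?_
  rw [map_smul, Pi.basisFun_repr]
  exact Submodule.smul_mem_smul (hz s) Submodule.mem_top

theorem w_mem : ∀ {r : ℕ} (b : Fin r → A) (m : Ideal A), (∀ i, b i ∈ m) → ∀ (z : Wiebe.X A r) (s : Fin r → Bool),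
    Wiebe.w b z s ∈ m := by
  intro r
  induction r with
  | zero => intro b m _ z s; simp [Wiebe.w]
  | succ r ih =>
    intro b m hb z s
    rw [← Wiebe.mk_p (Wiebe.w b z), Wiebe.p0_w, Wiebe.p1_w]
    cases h : s 0 with
    | false =>
      simp only [Wiebe.mk, LinearMap.coe_mk, AddHom.coe_mk, h, cond_false]
      exact ih _ m (fun i => hb _) _ _
    | true =>
      simp only [Wiebe.mk, LinearMap.coe_mk, AddHom.coe_mk, h, cond_true, Pi.sub_apply, Pi.smul_apply, smul_eq_mul]
      exact m.sub_mem (m.mul_mem_right _ (hb 0)) (ih _ m (fun i => hb _) _ _)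

theorem mem_smul_top_of_smul_eq_zero {M : Type v} [AddCommGroup M] [Module A M] [Module.Free A M] {m : Ideal A}
    {x : A} (hann : ∀ a, x * a = 0 → a ∈ m) {u : M} (hu : x • u = 0) : u ∈ m • (⊤ : Submodule A M) := by
  let e := Module.Free.chooseBasis A M
  rw [← e.linearCombination_repr u, Finsupp.linearCombination_apply]
  refine Submodule.sum_mem _ fun i _ => Submodule.smul_mem_smul (hann _ ?_) Submodule.mem_top
  have := congrArg (fun f => f i) (congrArg e.repr hu)
  simpa using this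

/-- A linear map out of a free module into the multiples of `x` is divisible by `x`. -/
theorem exists_div {G : Type w} {M : Type v} [AddCommGroup G] [Module A G] [Module.Free A G] [AddCommGroup M]
    [Module A M] (x : A) (f : G →ₗ[A] M) (h : ∀ g, ∃ t, f g = x • t) : ∃ s : G →ₗ[A] M, ∀ g, f g = x • s g := by
  choose t ht using h
  let e := Module.Free.chooseBasis A G
  refine ⟨e.constr A (fun i => t (e i)), fun g => ?_⟩
  have : f = x • e.constr A (fun i => t (e i)) := e.ext fun i => by simp [ht]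
  exact LinearMap.congr_fun this g

/-- The periodicity argument. -/
theorem exists_pow_mem {r : ℕ} (F : ℕ → Type v) [∀ n, AddCommGroup (F n)] [∀ n, Module A (F n)]
    [∀ n, Module.Free A (F n)] (D : ∀ n, F (n + 1) →ₗ[A] F n) (m : Ideal A) (a b : Fin r → A) (hb : ∀ i, b i ∈ m)
    {x g : A} (hab : ∑ i, b i * a i = x * g) (hxm : x ∈ m) (hann : ∀ c, x * c = 0 → c ∈ m)
    (hDD : ∀ n v, ∃ t, D n (D (n + 1) v) = x • t)
    (hex : ∀ n v, (∃ t, D n v = x • t) → ∃ w t, v = D (n + 1) w + x • t)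
    (f₀ : F 0) (ha : ∀ i, ∃ w t, a i • f₀ = D 0 w + x • t)
    (N : ℕ) (hTor : ∀ n, N ≤ n → ∀ v, D n v ∈ m • (⊤ : Submodule A (F n)) →
      v ∈ LinearMap.range (D (n + 1)) ⊔ m • ⊤) :
    ∃ k, g ^ k • f₀ ∈ LinearMap.range (D 0) ⊔ m • ⊤ := by
  classical
  let G := Wiebe.X A r
  let δ : G →ₗ[A] G := Wiebe.d a + Wiebe.w b
  have hδδ : ∀ z, δ (δ z) = (x * g) • z := fun z => by
    change Wiebe.d a (Wiebe.d a z + Wiebe.w b z) + Wiebe.w b (Wiebe.d a z + Wiebe.w b z) = _
    rw [map_add, map_add, Wiebe.d_d, Wiebe.w_w, zero_add, add_zero, Wiebe.d_w, hab]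
  let e := Pi.basisFun A (Fin r → Bool)
  have step : ∀ n (p : G →ₗ[A] F n) (q : G →ₗ[A] F (n + 1)), (∀ y, ∃ t, D n (q y) = p (δ y) + x • t) →
      ∃ q' : G →ₗ[A] F (n + 1 + 1), ∀ y, ∃ t, D (n + 1) (q' y) = q (δ y) + x • t := by
    intro n p q hpq
    have h1 : ∀ s, ∃ w t, q (δ (e s)) = D (n + 1) w + x • t := fun s => by
      refine hex n _ ?_
      obtain ⟨t, ht⟩ := hpq (δ (e s))
      exact ⟨g • p (e s) + t, by rw [ht, hδδ, map_smul, smul_add, mul_smul]⟩
    choose w t hw using h1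
    refine ⟨e.constr A w, fun y => ⟨-(e.constr A t y), ?_⟩⟩
    have : D (n + 1) ∘ₗ e.constr A w + x • e.constr A t = q ∘ₗ δ := e.ext fun s => by simp [hw]
    have h2 := LinearMap.congr_fun this y
    simp only [LinearMap.add_apply, LinearMap.comp_apply, LinearMap.smul_apply] at h2
    rw [← h2, smul_neg, add_neg_cancel_right]
  let φ₀ : G →ₗ[A] F 0 := Wiebe.eps.smulRight f₀
  obtain ⟨φ₁, hφ₁⟩ : ∃ q : G →ₗ[A] F 1, ∀ y, ∃ t, D 0 (q y) = φ₀ (δ y) + x • t := by
    have h1 : ∀ s, ∃ w t, φ₀ (δ (e s)) = D 0 w + x • t := fun s => by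
      have hc : Wiebe.eps (δ (e s)) ∈ Ideal.span (Set.range a) := by
        change Wiebe.eps (Wiebe.d a (e s) + Wiebe.w b (e s)) ∈ _
        rw [map_add, Wiebe.eps_w, add_zero]
        exact Wiebe.eps_mem _ _ (Wiebe.d_mem a _)
      obtain ⟨c, hc⟩ := Ideal.mem_span_range_iff_exists_fun.1 hc
      choose w t hw using ha
      refine ⟨∑ i, c i • w i, ∑ i, c i • t i, ?_⟩
      change Wiebe.eps (δ (e s)) • f₀ = _
      rw [← hc, Finset.sum_smul, map_sum, Finset.smul_sum, ← Finset.sum_add_distrib]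
      exact Finset.sum_congr rfl fun i _ => by rw [mul_smul, hw, smul_add, map_smul, smul_comm (c i) x]
    choose w t hw using h1
    refine ⟨e.constr A w, fun y => ⟨-(e.constr A t y), ?_⟩⟩
    have : D 0 ∘ₗ e.constr A w + x • e.constr A t = φ₀ ∘ₗ δ := e.ext fun s => by simp [hw]
    have h2 := LinearMap.congr_fun this y
    simp only [LinearMap.add_apply, LinearMap.comp_apply, LinearMap.smul_apply] at h2
    rw [← h2, smul_neg, add_neg_cancel_right]
  let T : ℕ → Type (max u v) := fun n =>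
    {p : (G →ₗ[A] F n) × (G →ₗ[A] F (n + 1)) // ∀ y, ∃ t, D n (p.2 y) = p.1 (δ y) + x • t}
  let S : ∀ n, T n := fun n => Nat.rec (motive := T) ⟨(φ₀, φ₁), hφ₁⟩
    (fun n p => ⟨(p.1.2, (step n p.1.1 p.1.2 p.2).choose), (step n p.1.1 p.1.2 p.2).choose_spec⟩) n
  let φ : ∀ n, G →ₗ[A] F n := fun n => (S n).1.1
  have hφ : ∀ n y, ∃ t, D n (φ (n + 1) y) = φ n (δ y) + x • t := fun n => (S n).2
  have hψ : ∀ n, ∃ ψ : G →ₗ[A] F n, ∀ y, D n (φ (n + 1) y) = φ n (δ y) + x • ψ y := fun n => by
    obtain ⟨ψ, hψ⟩ := exists_div x (D n ∘ₗ φ (n + 1) - φ n ∘ₗ δ) fun y => by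
      obtain ⟨t, ht⟩ := hφ n y
      exact ⟨t, by simp [ht]⟩
    exact ⟨ψ, fun y => by rw [← hψ y]; simp⟩
  choose ψ hψ using hψ
  have hh : ∀ n, ∃ h : F (n + 2) →ₗ[A] F n, ∀ v, D n (D (n + 1) v) = x • h v := fun n =>
    exists_div x (D n ∘ₗ D (n + 1)) (hDD n)
  choose h hh using hh
  let β := Wiebe.bot A r
  have hδβ : ∀ s, δ β s ∈ m := fun s => by
    change (Wiebe.d a (Wiebe.bot A r) + Wiebe.w b (Wiebe.bot A r)) s ∈ m
    rw [Wiebe.d_bot, zero_add]
    exact w_mem b m hb _ _
  let B : ∀ n, Submodule A (F n) := fun n => LinearMap.range (D n) ⊔ m • ⊤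
  have hdown : ∀ n c, c • φ (n + 2) β ∈ B (n + 2) → (c * g) • φ n β ∈ B n := by
    intro n c hn
    have key : x • (h n (φ (n + 2) β) - g • φ n β - D n (ψ (n + 1) β) - ψ n (δ β)) = 0 := by
      have h1 : x • h n (φ (n + 2) β) = (x * g) • φ n β + x • ψ n (δ β) + x • D n (ψ (n + 1) β) := by
        rw [← hh, hψ (n + 1) β, map_add, map_smul, hψ n (δ β), hδδ, map_smul]
      simp only [smul_sub, h1, mul_smul]
      abel
    have h2 : h n (φ (n + 2) β) - g • φ n β - D n (ψ (n + 1) β) ∈ m • (⊤ : Submodule A (F n)) := by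
      have := Submodule.add_mem _ (mem_smul_top_of_smul_eq_zero hann key) (map_mem_smul_top m (ψ n) _ hδβ)
      rwa [sub_add_cancel] at this
    obtain ⟨_, ⟨v, rfl⟩, u, hu, huv⟩ := Submodule.mem_sup.1 hn
    have h3 : h n (D (n + 2) v) - D n (h (n + 1) v) ∈ m • (⊤ : Submodule A (F n)) := by
      refine mem_smul_top_of_smul_eq_zero hann ?_
      rw [smul_sub, ← hh, hh (n + 1) v, map_smul, sub_self]
    have h4 : h n u ∈ m • (⊤ : Submodule A (F n)) :=
      (Submodule.map_smul'' m ⊤ (h n)).le.trans (Submodule.smul_mono le_rfl le_top) ⟨u, hu, rfl⟩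
    have h5 : (c * g) • φ n β = D n (h (n + 1) v - c • ψ (n + 1) β) +
        ((h n (D (n + 2) v) - D n (h (n + 1) v)) + h n u -
          c • (h n (φ (n + 2) β) - g • φ n β - D n (ψ (n + 1) β))) := by
      rw [map_sub, map_smul, smul_sub, smul_sub, ← map_smul (h n) c, ← huv, map_add, mul_smul]
      abel
    rw [h5]
    exact Submodule.add_mem_sup ⟨_, rfl⟩ (Submodule.sub_mem _ (Submodule.add_mem _ h3 h4) (Submodule.smul_mem _ c h2))
  have htop : φ (N + N + 2) β ∈ B (N + N + 2) := by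
    obtain ⟨t, ht⟩ := hφ (N + N + 1) β
    refine hTor (N + N + 1) (by lia) _ ?_
    rw [ht]
    exact Submodule.add_mem _ (map_mem_smul_top m (φ (N + N + 1)) _ hδβ)
      (Submodule.smul_mem_smul hxm Submodule.mem_top)
  have hall : ∀ k j, g ^ j • φ (2 * k) β ∈ B (2 * k) → g ^ (j + k) • φ 0 β ∈ B 0 := by
    intro k
    induction k with
    | zero => intro j hj; exact hj
    | succ k ih =>
      intro j hj
      have := ih (j + 1) (by rw [pow_succ]; exact hdown (2 * k) _ hj)
      rwa [add_assoc, add_comm 1 k] at this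
  have h0 : φ 0 β = f₀ := by
    show Wiebe.eps (Wiebe.bot A r) • f₀ = f₀
    rw [Wiebe.eps_bot, one_smul]
  refine ⟨0 + (N + 1), ?_⟩
  rw [← h0]
  refine hall (N + 1) 0 ?_
  rw [pow_zero, one_smul, show 2 * (N + 1) = N + N + 2 by lia]
  exact htop

/-- A flat quotient makes a submodule meet `I F` in `I K`. -/
theorem mem_map_smul_of_flat {R : Type u} [CommRing R] {K F Q : Type u} [AddCommGroup K] [Module R K]
    [AddCommGroup F] [Module R F] [AddCommGroup Q] [Module R Q] [Module.Flat R Q] {f : K →ₗ[R] F} {g : F →ₗ[R] Q}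
    (hf : Function.Injective f) (hex : Function.Exact f g) (hg : Function.Surjective g) (I : Ideal R) (z : K)
    (hz : f z ∈ I • (⊤ : Submodule R F)) : z ∈ I • (⊤ : Submodule R K) := by
  have hinj := FlatCx.rTensor_injective_of_flat_quotient hf hex hg (R ⧸ I)
  have key : ∀ (M : Type u) [AddCommGroup M] [Module R M] (y : M),
      y ⊗ₜ[R] (1 : R ⧸ I) = 0 ↔ y ∈ I • (⊤ : Submodule R M) := fun M _ _ y => by
    rw [← (TensorProduct.tensorQuotEquivQuotSMul M I).map_eq_zero_iff, ← map_one (Ideal.Quotient.mk I),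
      TensorProduct.tensorQuotEquivQuotSMul_tmul_mk, one_smul, Submodule.Quotient.mk_eq_zero]
  refine (key K z).mp (hinj ?_)
  rw [map_zero, LinearMap.rTensor_tmul]
  exact (key F _).mpr hz

section Syzygy

variable (P : Type u) [CommRing P] [IsNoetherianRing P]

/-- A stage of a free resolution: a submodule of a finite free module. -/
abbrev Stage : Type u := Σ r : ℕ, Submodule P (Fin r → P)

/-- The next rank. -/
noncomputable def nextRank (s : Stage P) : ℕ := (Module.Finite.exists_fin' P s.2).choose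

/-- A free cover of a stage. -/
noncomputable def cover (s : Stage P) : (Fin (nextRank P s) → P) →ₗ[P] s.2 :=
  (Module.Finite.exists_fin' P s.2).choose_spec.choose

theorem cover_surjective (s : Stage P) : Function.Surjective (cover P s) :=
  (Module.Finite.exists_fin' P s.2).choose_spec.choose_spec

/-- The next stage. -/
noncomputable def next (s : Stage P) : Stage P := ⟨nextRank P s, LinearMap.ker (cover P s)⟩

/-- The stages of a resolution. -/
noncomputable def stage (s : Stage P) : ℕ → Stage P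
  | 0 => s
  | n + 1 => next P (stage s n)

end Syzygy

end Groth.Agent.TorLift
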